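import Groth.Agent.FibreDimEt.Sp

/-!
Morphisms of relative dimension zero.
-/

set_option autoImplicit false
set_option backward.isDefEq.respectTransparency false
set_option backward.isDefEq.respectTransparency.types false

universe u

open CategoryTheory CategoryTheory.Limits AlgebraicGeometry TopologicalSpace Topology

namespace Groth.Agent.FibreDimEt

theorem one_le_of_pos {x : WithBot ℕ∞} (h : 0 < x) : 1 ≤ x := by
  obtain _ | _ | n := x
  · exact absurd h (show ¬ (0 : WithBot ℕ∞) < ⊥ from not_lt_bot)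
  · exact WithBot.coe_le_coe.2 le_top
  · have hn : (0 : ℕ∞) < (n : ℕ∞) := WithBot.coe_lt_coe.1 h
    exact WithBot.coe_le_coe.2 (Order.one_le_iff_pos.2 hn)

theorem nonneg_topologicalKrullDim {A : Type u} [TopologicalSpace A] [Nonempty A] :
    0 ≤ topologicalKrullDim A := by
  obtain ⟨a⟩ := ‹Nonempty A›
  haveI : Nonempty (IrreducibleCloseds A) :=
    ⟨⟨closure {a}, isIrreducible_singleton.closure, isClosed_closure⟩⟩
  exact Order.krullDim_nonneg

theorem localDim_of_isOpen_singleton {A : Type u} [TopologicalSpace A] {a : A} (h : IsOpen ({a} : Set A)) :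
    FlatMor.localDim A a = 0 := by
  refine le_antisymm (iInf_le_of_le ⟨⟨{a}, h⟩, rfl⟩ ?_) (le_iInf fun U => ?_)
  · haveI : Subsingleton ↥({a} : Set A) := Set.subsingleton_coe _ |>.2 Set.subsingleton_singleton
    refine Order.krullDim_nonpos_iff_forall_isMax.2 fun T T' hTT' => ?_
    intro x hx
    obtain ⟨y, hy⟩ := T.2.nonempty
    rwa [Subsingleton.elim x y]
  · haveI : Nonempty (U.1 : Set A) := ⟨⟨a, U.2⟩⟩
    exact nonneg_topologicalKrullDim

theorem isOpen_singleton_of_localDim_le {F : Scheme.{u}} [IsLocallyNoetherian F] {a : ↥F}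
    (h : FlatMor.localDim ↥F a ≤ 0) : IsOpen ({a} : Set ↥F) := by
  obtain ⟨U, hU⟩ : ∃ U : {U : Opens ↥F // a ∈ U}, topologicalKrullDim (U.1 : Set ↥F) ≤ 0 := by
    by_contra hne
    exact absurd ((le_iInf fun U => one_le_of_pos (not_le.1 fun h' => hne ⟨U, h'⟩)).trans h) (by decide)
  obtain ⟨_, ⟨O, hO, rfl⟩, haO, hOU⟩ :=
    F.isBasis_affineOpens.exists_subset_of_mem_open (show a ∈ (U.1 : Set ↥F) from U.2) U.1.isOpen
  haveI : NoetherianSpace ↥(O : Set ↥F) := by
    haveI := hO
    haveI : IsLocallyNoetherian (Scheme.Opens.toScheme O) := inferInstance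
    haveI : CompactSpace ↥(Scheme.Opens.toScheme O) := isCompact_iff_compactSpace.mp (IsAffineOpen.isCompact hO)
    haveI : AlgebraicGeometry.IsNoetherian (Scheme.Opens.toScheme O) := AlgebraicGeometry.IsNoetherian.mk
    exact inferInstanceAs (NoetherianSpace ↥(Scheme.Opens.toScheme O))
  haveI : QuasiSober ↥(O : Set ↥F) := O.isOpen.isOpenEmbedding_subtypeVal.quasiSober
  have hd : topologicalKrullDim (O : Set ↥F) ≤ 0 :=
    ((Topology.IsEmbedding.inclusion hOU).isInducing.topologicalKrullDim_le).trans hU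
  have hsp : ∀ x y : ↥(O : Set ↥F), x ⤳ y → x = y := fun x y hxy => by
    refine (hxy.antisymm ?_).eq
    let Tx : IrreducibleCloseds ↥(O : Set ↥F) := ⟨closure {x}, isIrreducible_singleton.closure, isClosed_closure⟩
    let Ty : IrreducibleCloseds ↥(O : Set ↥F) := ⟨closure {y}, isIrreducible_singleton.closure, isClosed_closure⟩
    have hle : Ty ≤ Tx := hxy.closure_subset
    exact specializes_iff_closure_subset.2 (Order.krullDim_nonpos_iff_forall_isMax.1 hd Ty hle)
  haveI : T1Space ↥(O : Set ↥F) := t1Space_iff_specializes_imp_eq.2 fun x y hxy => hsp x y hxy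
  have hcomp : ∀ T ∈ irreducibleComponents ↥(O : Set ↥F), ∃ x, T = {x} := fun T hT => by
    obtain ⟨x, hx⟩ := QuasiSober.sober hT.1 (isClosed_of_mem_irreducibleComponents T hT)
    exact ⟨x, by rw [← hx.def, closure_singleton]⟩
  haveI : Finite ↥(O : Set ↥F) := by
    refine Set.finite_univ_iff.1 ?_
    rw [← sUnion_irreducibleComponents]
    refine Set.Finite.sUnion NoetherianSpace.finite_irreducibleComponents fun T hT => ?_
    obtain ⟨x, rfl⟩ := hcomp T hT
    exact Set.finite_singleton x
  have h1 : IsOpen ({⟨a, haO⟩} : Set ↥(O : Set ↥F)) := isOpen_discrete _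
  have h2 := O.isOpen.isOpenMap_subtype_val _ h1
  rwa [Set.image_singleton] at h2

/-- Relative dimension zero at every point means locally quasi-finite. -/
theorem locallyQuasiFinite_iff_fibreDimAt_eq_zero {U V : Scheme.{u}} (k : U ⟶ V) [LocallyOfFiniteType k] :
    LocallyQuasiFinite k ↔ ∀ u, FlatMor.fibreDimAt k u = 0 := by
  rw [locallyQuasiFinite_iff_isDiscrete_preimage_singleton]
  constructor
  · intro h u
    rw [fibreDimAt_eq_localDim k u rfl]
    haveI := (h (k u)).to_subtype
    exact localDim_of_isOpen_singleton (isOpen_discrete _)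
  · intro h v
    haveI : LocallyOfFiniteType (k.fiberToSpecResidueField v) := MorphismProperty.pullback_snd _ _ ‹_›
    haveI : IsLocallyNoetherian (k.fiber v) :=
      LocallyOfFiniteType.isLocallyNoetherian (k.fiberToSpecResidueField v)
    have hd : ∀ z : ↥(k.fiber v), IsOpen ({z} : Set ↥(k.fiber v)) := fun z => by
      have hz : k (k.fiberι v z) = v := (k.fiberHomeo v z).2
      refine isOpen_singleton_of_localDim_le (le_of_eq ?_)
      rw [← h (k.fiberι v z), fibreDimAt_eq_localDim k (k.fiberι v z) hz]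
      haveI := quasiSober_fibre k v
      exact localDim_eq_of_isGenLift (isGenLift_of_isOpenEmbedding (k.fiberHomeo v).isOpenEmbedding)
        (k.fiberHomeo v).isOpenMap z
    haveI : DiscreteTopology ↥(k.fiber v) := discreteTopology_iff_isOpen_singleton.2 hd
    exact ⟨(k.fiberHomeo v).symm.isEmbedding.discreteTopology⟩

open _root_.AlgSp Groth.Agent.ASp in
/-- Locally quasi-finite means relative dimension zero, for algebraic spaces. -/
theorem locP_lqf_iff_hasAtMor {S : Scheme.{u}} {X Y : Sp S} {f : X ⟶ Y} (hX : IsAlgSpace X) (hY : IsAlgSpace Y)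
    (hf : LocP @LocallyOfFiniteType f) :
    LocP (@LocallyQuasiFinite ⊓ @LocallyOfFiniteType) f ↔
      ∀ x : AlgSp.Points X, HasAtMor (fun _ _ h u => FlatMor.fibreDimAt h u = 0) f x := by
  constructor
  · intro h x
    obtain ⟨U, V, a, b, k, u, ha, hb, e, hu⟩ := exists_chart (f := f) hX hY x
    haveI := hf a b k ha hb e
    exact ⟨U, V, a, b, k, u, ha, hb, e, hu,
      (locallyQuasiFinite_iff_fibreDimAt_eq_zero k.left).1 (h a b k ha hb e).1 u⟩
  · intro h U V a b k ha hb e
    haveI := hf a b k ha hb e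
    refine ⟨(locallyQuasiFinite_iff_fibreDimAt_eq_zero k.left).2 fun u => ?_, hf a b k ha hb e⟩
    obtain ⟨U₁, V₁, a₁, b₁, k₁, u₁, ha₁, hb₁, e₁, hu₁, hQ⟩ := h (AlgSp.Points.ofPt a u)
    rw [fibreDimAt_eq_of_charts (f := f) ha hb e ha₁ hb₁ e₁ hu₁.symm]
    exact hQ

end Groth.Agent.FibreDimEt
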