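import Groth.Prelude.Def_Flat
import Groth.Agent.ASp.ChartDim

/-!
Local dimension of fibres along etale maps and along homeomorphisms.
-/

set_option autoImplicit false
set_option backward.isDefEq.respectTransparency false
set_option backward.isDefEq.respectTransparency.types false

universe u

open CategoryTheory CategoryTheory.Limits AlgebraicGeometry TopologicalSpace Topology

namespace Groth.Agent.FibreDimEt

open Groth.Agent.ASp

variable {A B : Type u} [TopologicalSpace A] [TopologicalSpace B]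

theorem isGenLift_of_isOpenEmbedding {e : A → B} (h : IsOpenEmbedding e) : IsGenLift e where
  cont := h.continuous
  eq_of_specializes he _ := h.injective he
  lift {a b} hb := by
    obtain ⟨a', rfl⟩ := hb.mem_open h.isOpen_range ⟨a, rfl⟩
    exact ⟨a', h.isInducing.specializes_iff.1 hb, rfl⟩

/-- An open map lifting generalisations without specialisations in fibres keeps local dimensions. -/
theorem localDim_eq_of_isGenLift [QuasiSober A] [T0Space A] [QuasiSober B] [T0Space B] {f : A → B}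
    (hg : IsGenLift f) (hopen : IsOpenMap f) (a : A) :
    FlatMor.localDim A a = FlatMor.localDim B (f a) := by
  have key : ∀ V : Opens A, topologicalKrullDim (V : Set A) = topologicalKrullDim (f '' (V : Set A)) := by
    intro V
    haveI : QuasiSober ↥(V : Set A) := V.isOpen.isOpenEmbedding_subtypeVal.quasiSober
    haveI : QuasiSober ↥(f '' (V : Set A)) := (hopen _ V.isOpen).isOpenEmbedding_subtypeVal.quasiSober
    refine (hg.restrict hopen V.isOpen).topologicalKrullDim_eq ?_
    rintro ⟨_, v, hv, rfl⟩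
    exact ⟨⟨v, hv⟩, rfl⟩
  unfold FlatMor.localDim
  refine le_antisymm (le_iInf fun O => ?_) (le_iInf fun V => ?_)
  · refine iInf_le_of_le ⟨⟨_, O.1.isOpen.preimage hg.cont⟩, O.2⟩ ?_
    dsimp only
    rw [key ⟨_, O.1.isOpen.preimage hg.cont⟩]
    exact (Topology.IsInducing.topologicalKrullDim_le (f := Set.inclusion (Set.image_preimage_subset _ _))
      (Topology.IsEmbedding.inclusion (Set.image_preimage_subset _ _)).isInducing)
  · refine iInf_le_of_le ⟨⟨_, hopen _ V.1.isOpen⟩, a, V.2, rfl⟩ ?_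
    exact (key V.1).ge

/-- Fibres of morphisms of schemes are sober. -/
theorem quasiSober_fibre {U V : Scheme.{u}} (h : U ⟶ V) (v : ↥V) : QuasiSober ↥(h ⁻¹' {v}) :=
  (h.fiberHomeo v).symm.isClosedEmbedding.quasiSober

/-- The fibre dimension is the local dimension of the set-theoretic fibre. -/
theorem fibreDimAt_eq_localDim {U V : Scheme.{u}} (h : U ⟶ V) (u : ↥U) {v : ↥V} (hu : h u = v) :
    FlatMor.fibreDimAt h u = FlatMor.localDim ↥(h ⁻¹' {v}) ⟨u, hu⟩ := by
  subst hu
  haveI := quasiSober_fibre h (h u)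
  rw [FlatMor.fibreDimAt, localDim_eq_of_isGenLift
    (isGenLift_of_isOpenEmbedding (h.fiberHomeo (h u)).isOpenEmbedding) (h.fiberHomeo (h u)).isOpenMap
    (h.asFiber u)]
  congr 1
  exact Subtype.ext (h.fiberι_asFiber u)

/-- The fibre dimension is etale local on source and target. -/
theorem fibreDimAt_eq_of_etale {U U' V V' : Scheme.{u}} (h : U ⟶ V) (h' : U' ⟶ V') (a : U' ⟶ U)
    (b : V' ⟶ V) [Etale a] [Etale b] (comm : h' ≫ b = a ≫ h) (u' : ↥U') :
    FlatMor.fibreDimAt h (a u') = FlatMor.fibreDimAt h' u' := by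
  have hc : ∀ x : ↥U', b (h' x) = h (a x) := fun x => by
    rw [← Scheme.Hom.comp_apply, comm, Scheme.Hom.comp_apply]
  haveI := quasiSober_fibre h' (h' u')
  haveI := quasiSober_fibre h (h (a u'))
  rw [fibreDimAt_eq_localDim h' u' rfl, fibreDimAt_eq_localDim h (a u') rfl]
  let φ : ↥(h' ⁻¹' {h' u'}) → ↥(h ⁻¹' {h (a u')}) := fun x => ⟨a x.1, by
    show h (a x.1) = h (a u')
    rw [← hc, ← hc, x.2]⟩
  have ha := isGenLift_of_etale a
  have hg : IsGenLift φ :=
    { cont := (a.continuous.comp continuous_subtype_val).subtype_mk _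
      eq_of_specializes := fun e hs => Subtype.ext
        (ha.eq_of_specializes (congrArg Subtype.val e) ((subtype_specializes_iff _ _).1 hs))
      lift := by
        intro x y hy
        obtain ⟨x', hx', e⟩ := ha.lift ((subtype_specializes_iff _ _).1 hy)
        refine ⟨⟨x', ?_⟩, (subtype_specializes_iff _ _).2 hx', Subtype.ext e⟩
        show h' x' = h' u'
        rw [← x.2]
        refine ((isGenLift_of_etale b).eq_of_specializes ?_ (hx'.map h'.continuous)).symm
        rw [hc, hc, e, show h (a x.1) = h (a u') from (φ x).2, y.2] }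
  have hopen : IsOpenMap φ := by
    haveI := Groth.Agent.Unibranch.locallyQuasiFinite_of_etale b
    haveI := (b.isDiscrete_preimage_singleton (h (a u'))).to_subtype
    obtain ⟨O, hO, hOe⟩ := isOpen_induced_iff.1
      (isOpen_discrete ({⟨h' u', hc u'⟩} : Set ↥(b ⁻¹' {h (a u')})))
    intro W hW
    obtain ⟨W', hW', rfl⟩ := isOpen_induced_iff.1 hW
    refine isOpen_induced_iff.2 ⟨a '' (W' ∩ h' ⁻¹' O), a.isOpenMap _ (hW'.inter (hO.preimage h'.continuous)), ?_⟩
    ext y
    constructor
    · rintro ⟨x, ⟨hxW, hxO⟩, hxy⟩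
      have hxv : h' x = h' u' := by
        have h1 : (⟨h' x, by rw [Set.mem_preimage, hc, hxy]; exact y.2⟩ : ↥(b ⁻¹' {h (a u')})) ∈
            Subtype.val ⁻¹' O := hxO
        rw [hOe] at h1
        exact congrArg Subtype.val h1
      exact ⟨⟨x, hxv⟩, hxW, Subtype.ext hxy⟩
    · rintro ⟨x, hxW, rfl⟩
      refine ⟨x.1, ⟨hxW, ?_⟩, rfl⟩
      have h1 : (⟨h' u', hc u'⟩ : ↥(b ⁻¹' {h (a u')})) ∈ Subtype.val ⁻¹' O := by rw [hOe]; rfl
      show h' x.1 ∈ O
      rw [x.2]
      exact h1
  exact (localDim_eq_of_isGenLift hg hopen ⟨u', rfl⟩).symm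

/-- The fibre dimension does not see bijective thickenings of source and target. -/
theorem fibreDimAt_eq_of_homeo {U U' V V' : Scheme.{u}} (k : U ⟶ V) (k' : U' ⟶ V') (i : U ⟶ U')
    (j : V ⟶ V') (comm : i ≫ k' = k ≫ j) (hi : IsHomeomorph i) (hj : Function.Injective j) (u : ↥U) :
    FlatMor.fibreDimAt k' (i u) = FlatMor.fibreDimAt k u := by
  have hc : ∀ x : ↥U, k' (i x) = j (k x) := fun x => by
    rw [← Scheme.Hom.comp_apply, comm, Scheme.Hom.comp_apply]
  have e : k ⁻¹' {k u} = i ⁻¹' (k' ⁻¹' {k' (i u)}) := by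
    ext x
    show k x = k u ↔ k' (i x) = k' (i u)
    rw [hc, hc, hj.eq_iff]
  let φ : ↥(k ⁻¹' {k u}) ≃ₜ ↥(k' ⁻¹' {k' (i u)}) :=
    (hi.homeomorph i).sets e
  haveI := quasiSober_fibre k (k u)
  haveI := quasiSober_fibre k' (k' (i u))
  rw [fibreDimAt_eq_localDim k' (i u) rfl, fibreDimAt_eq_localDim k u rfl]
  exact (localDim_eq_of_isGenLift (isGenLift_of_isOpenEmbedding φ.isOpenEmbedding) φ.isOpenMap ⟨u, rfl⟩).symm

end Groth.Agent.FibreDimEt
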