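import Groth.Agent.FibreDimEt.Top
import Groth.Agent.ASp.ThickProper
import Groth.Prelude.Def_AlgSpDec

/-!
Relative dimension at points of algebraic spaces.
-/

set_option autoImplicit false
set_option backward.isDefEq.respectTransparency false
set_option backward.isDefEq.respectTransparency.types false

universe u

open CategoryTheory CategoryTheory.Limits AlgebraicGeometry

namespace Groth.Agent.FibreDimEt

open _root_.AlgSp Groth.Agent.ASp

variable {S : Scheme.{u}} {X Y : Sp S} {f : X ⟶ Y}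

/-- All charts at a point see the same fibre dimension. -/
theorem fibreDimAt_eq_of_charts {U V U₁ V₁ : Over S} {a : (yon S).obj U ⟶ X} {b : (yon S).obj V ⟶ Y}
    {h : U ⟶ V} {a₁ : (yon S).obj U₁ ⟶ X} {b₁ : (yon S).obj V₁ ⟶ Y} {h₁ : U₁ ⟶ V₁}
    (ha : RepWith @Etale a) (hb : RepWith @Etale b) (e : a ≫ f = (yon S).map h ≫ b)
    (ha₁ : RepWith @Etale a₁) (hb₁ : RepWith @Etale b₁) (e₁ : a₁ ≫ f = (yon S).map h₁ ≫ b₁)
    {u : ↥U.left} {u₁ : ↥U₁.left} (he : Points.ofPt a u = Points.ofPt a₁ u₁) :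
    FlatMor.fibreDimAt h.left u = FlatMor.fibreDimAt h₁.left u₁ := by
  obtain ⟨P, t, s, r, ht, hs, hw, rfl, rfl⟩ := exists_common_point ha ha₁ he
  obtain ⟨T, p, q, sq⟩ : ∃ (T : Over S) (p : T ⟶ V) (q : T ⟶ V₁),
      IsPullback ((yon S).map p) ((yon S).map q) b b₁ := by
    obtain ⟨p, hp⟩ := (yon S).map_surjective (hb.1.fst b₁)
    exact ⟨_, p, hb.1.snd b₁, hp ▸ hb.1.isPullback b₁⟩
  obtain ⟨g, hg⟩ := (yon S).map_surjective (sq.lift ((yon S).map (t ≫ h)) ((yon S).map (s ≫ h₁)) (by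
    rw [Functor.map_comp, Functor.map_comp, Category.assoc, Category.assoc, ← e, ← e₁, reassoc_of% hw]))
  haveI : Etale p.left := hb₁.2 _ _ _ sq.flip
  haveI : Etale q.left := hb.2 _ _ _ sq
  haveI := ht
  haveI := hs
  have hp' : g ≫ p = t ≫ h := (yon S).map_injective (by rw [Functor.map_comp, hg, sq.lift_fst])
  have hq' : g ≫ q = s ≫ h₁ := (yon S).map_injective (by rw [Functor.map_comp, hg, sq.lift_snd])
  rw [fibreDimAt_eq_of_etale h.left g.left t.left p.left (congrArg CommaMorphism.left hp') r,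
    fibreDimAt_eq_of_etale h₁.left g.left s.left q.left (congrArg CommaMorphism.left hq') r]

/-- Every point of the source has a chart. -/
theorem exists_chart (hX : IsAlgSpace X) (hY : IsAlgSpace Y) (x : Points X) :
    ∃ (U V : Over S) (a : (yon S).obj U ⟶ X) (b : (yon S).obj V ⟶ Y) (h : U ⟶ V) (u : ↥U.left),
      RepWith @Etale a ∧ RepWith @Etale b ∧ a ≫ f = (yon S).map h ≫ b ∧ Points.ofPt a u = x := by
  obtain ⟨A, a, hae, has⟩ := hX.atlas
  obtain ⟨V, b, hbe, hbs⟩ := hY.atlas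
  obtain ⟨U, p, h, hpe, hps, he, -⟩ := exists_etale_cover hbe hbs (a ≫ f)
  obtain ⟨w, rfl⟩ := surjective_ofPt has x
  obtain ⟨u, rfl⟩ := hps.surj w
  exact ⟨U, V, (yon S).map p ≫ a, b, h, u, repWith_comp (repWith_yon_map hpe) hae, hbe,
    by rw [Category.assoc, he], by rw [ofPt_yon_map_comp]⟩

/-- Relative dimension at a point does not see cartesian thickenings. -/
theorem hasAtMor_fibreDim_thick_iff {X' Y' : Sp S} {f' : X' ⟶ Y'} {i : X ⟶ X'} {j : Y ⟶ Y'}
    (hi : IsThickMor i) (hj : IsThickMor j) (hc : IsPullback i f f' j) (hX' : IsAlgSpace X')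
    (hY' : IsAlgSpace Y') (d : WithBot ℕ∞) :
    (∀ x, HasAtMor (fun _ _ h u => FlatMor.fibreDimAt h u = d) f x) ↔
      ∀ x', HasAtMor (fun _ _ h u => FlatMor.fibreDimAt h u = d) f' x' := by
  have key : ∀ x : Points X,
      HasAtMor (fun _ _ h u => FlatMor.fibreDimAt h u = d) f x ↔
      HasAtMor (fun _ _ h u => FlatMor.fibreDimAt h u = d) f' (Points.map i x) := by
    intro x
    obtain ⟨U', V', a', b', k', u', ha', hb', e', hu'⟩ := exists_chart (f := f') hX' hY' (Points.map i x)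
    obtain ⟨U, a, ιU, sqU⟩ : ∃ (U : Over S) (a : (yon S).obj U ⟶ X) (ιU : U ⟶ U'),
        IsPullback a ((yon S).map ιU) i a' := ⟨_, _, _, hi.1.isPullback a'⟩
    obtain ⟨V, b, ιV, sqV⟩ : ∃ (V : Over S) (b : (yon S).obj V ⟶ Y) (ιV : V ⟶ V'),
        IsPullback b ((yon S).map ιV) j b' := ⟨_, _, _, hj.1.isPullback b'⟩
    obtain ⟨k, hk⟩ := (yon S).map_surjective (sqV.lift (a ≫ f) ((yon S).map (ιU ≫ k'))
      (by rw [Functor.map_comp, Category.assoc, Category.assoc, ← e', ← reassoc_of% sqU.w, hc.w]))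
    have hk1 : (yon S).map k ≫ b = a ≫ f := by rw [hk, sqV.lift_fst]
    have hk2 : k ≫ ιV = ιU ≫ k' := (yon S).map_injective (by rw [Functor.map_comp, hk, sqV.lift_snd])
    obtain ⟨z, hz1, hz2⟩ := points_exists_of_isPullback sqU x (Points.schemeHomeo U' u')
      (by rw [← hu', ofPt_comp_eq_map]; rfl)
    obtain ⟨u, rfl⟩ := (Points.schemeHomeo U).surjective z
    rw [Points.map_yon_map_apply] at hz2
    have hu : Points.ofPt a u = x := by rw [← hz1]; rfl
    have huu : ιU.left u = u' := (Points.schemeHomeo U').injective hz2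
    have hth := hi.2 _ _ _ sqU
    have hth' := hj.2 _ _ _ sqV
    haveI : IsClosedImmersion ιU.left := hth.1
    haveI : IsClosedImmersion ιV.left := hth'.1
    have hd : FlatMor.fibreDimAt k'.left u' = FlatMor.fibreDimAt k.left u := by
      rw [← huu]
      exact fibreDimAt_eq_of_homeo k.left k'.left ιU.left ιV.left (congrArg CommaMorphism.left hk2.symm)
        ⟨ιU.left.continuous, (isHomeomorph_iff_isEmbedding_surjective.2
          ⟨ιU.left.isEmbedding, hth.2.surj⟩).isOpenMap, ιU.left.isEmbedding.injective, hth.2.surj⟩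
        ιV.left.isEmbedding.injective u
    have ha := repWith_of_isPullback sqU.flip ha'
    have hb := repWith_of_isPullback sqV.flip hb'
    constructor
    · rintro ⟨U₁, V₁, a₁, b₁, h₁, u₁, ha₁, hb₁, e₁, hx₁, hQ⟩
      refine ⟨U', V', a', b', k', u', ha', hb', e', hu', ?_⟩
      show FlatMor.fibreDimAt k'.left u' = d
      rw [hd, fibreDimAt_eq_of_charts (f := f) ha hb hk1.symm ha₁ hb₁ e₁ (hu.trans hx₁.symm)]
      exact hQ
    · rintro ⟨U₁, V₁, a₁, b₁, h₁, u₁, ha₁, hb₁, e₁, hx₁, hQ⟩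
      refine ⟨U, V, a, b, k, u, ha, hb, hk1.symm, hu, ?_⟩
      show FlatMor.fibreDimAt k.left u = d
      rw [← hd, fibreDimAt_eq_of_charts (f := f') ha' hb' e' ha₁ hb₁ e₁ (hu'.trans hx₁.symm)]
      exact hQ
  refine ⟨fun h x' => ?_, fun h x => (key x).2 (h _)⟩
  obtain ⟨x, rfl⟩ := (isHomeomorph_map_of_thick hi).surjective x'
  exact (key x).1 (h x)

end Groth.Agent.FibreDimEt
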